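import Cfsg.Agent.U43Mult.Code
import Cfsg.Agent.U43Mult.BoundsData
import Cfsg.Agent.SchurSmall.Rank
import Cfsg.Agent.SchurCert.Trivial


set_option autoImplicit false
set_option maxRecDepth 20000

/-!
The Schur multiplier of `PSU(4, 3)` has order at most 36.
-/

namespace Cfsg.Agent.U43Mult

open Cfsg Cfsg.Agent.McLUnitary Cfsg.Agent.SchurCert Cfsg.Agent.SchurBound

/-- The test that `nodes` consists of codes of elements. -/
def nodesOK : Bool :=
  Nat.beq nodes.length (nodeFactors.length + 9) &&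
    (List.range 8).all (fun k => Nat.beq (nodes.getD k 0) (genCode k)) &&
    Nat.beq (nodes.getD 8 0) oneP &&
    (List.range nodeFactors.length).all (fun j =>
      Nat.blt (nodeFactors.getD j (0, 0)).1 (j + 9) && Nat.blt (nodeFactors.getD j (0, 0)).2 (j + 9) &&
        Nat.beq (nodes.getD (j + 9) 0)
          (mulP (nodes.getD (nodeFactors.getD j (0, 0)).1 0) (nodes.getD (nodeFactors.getD j (0, 0)).2 0)))

theorem nodesOK_eq : nodesOK = true := by decide +kernel

theorem exists_node : ∀ i, i < nodes.length → ∃ s : ↥S0, s ∈ genSub ∧ encS s = nodes.getD i 0 := by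
  have h := nodesOK_eq
  simp only [nodesOK, Bool.and_eq_true, List.all_eq_true, List.mem_range, Nat.blt_eq] at h
  obtain ⟨⟨⟨hlen, hgen⟩, hone⟩, hrec⟩ := h
  intro i
  induction i using Nat.strong_induction_on with
  | _ i ih =>
    intro hi
    rcases Nat.lt_trichotomy i 8 with h8 | rfl | h8
    · rw [Nat.eq_of_beq_eq_true (hgen i h8)]
      exact ⟨genEl ⟨i, h8⟩, Subgroup.subset_closure ⟨_, rfl⟩, enc_genEl _⟩
    · exact ⟨1, one_mem _, encS_one.trans (Nat.eq_of_beq_eq_true hone).symm⟩
    · obtain ⟨j, rfl⟩ : ∃ j, i = j + 9 := ⟨i - 9, by omega⟩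
      have hl := Nat.eq_of_beq_eq_true hlen
      obtain ⟨⟨h1, h2⟩, h3⟩ := hrec j (by omega)
      obtain ⟨a, ha', ha⟩ := ih _ h1 (h1.trans hi)
      obtain ⟨b, hb', hb⟩ := ih _ h2 (h2.trans hi)
      exact ⟨a * b, mul_mem ha' hb', by rw [encS_mul, ha, hb, Nat.eq_of_beq_eq_true h3]⟩

/-- The elements listed by positions in `nodes`. -/
noncomputable def nodeAt (l : List ℕ) (i : ℕ) : ↥S0 :=
  Classical.epsilon fun s : ↥S0 => s ∈ genSub ∧ encS s = (l.map (nodes.getD · 0)).getD i oneP

theorem nodeAt_spec (l : List ℕ) (hl : ∀ x ∈ l, x < nodes.length) (i : ℕ) :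
    nodeAt l i ∈ genSub ∧ encS (nodeAt l i) = (l.map (nodes.getD · 0)).getD i oneP := by
  refine Classical.epsilon_spec
    (p := fun s : ↥S0 => s ∈ genSub ∧ encS s = (l.map (nodes.getD · 0)).getD i oneP) ?_
  by_cases hi : i < l.length
  · rw [List.getD_eq_getElem _ _ (by simpa using hi), List.getElem_map]
    exact exists_node _ (hl _ (List.getElem_mem hi))
  · rw [List.getD_eq_default _ _ (by simpa using hi)]
    exact ⟨1, one_mem _, encS_one⟩

theorem enc_nodeAt (l : List ℕ) (hl : ∀ x ∈ l, x < nodes.length) (i : ℕ) :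
    encS (nodeAt l i) = (l.map (nodes.getD · 0)).getD i oneP :=
  (nodeAt_spec l hl i).2

/-- The Sylow subgroup in a certificate lies in `genSub`. -/
theorem initGroup_le (l : List ℕ) (hl : ∀ x ∈ l, x < nodes.length) (n : ℕ) :
    initGroup (nodeAt l) n ≤ genSub := by
  rw [initGroup, Subgroup.closure_le]
  rintro _ ⟨i, -, rfl⟩
  exact (nodeAt_spec l hl i).1

theorem applies_cert (B : BCert) (p N m : ℕ) (gl fl : List ℕ)
    (hg : B.D.gens = gl.map (nodes.getD · 0)) (hf : B.D.gs = fl.map (nodes.getD · 0))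
    (hl : ∀ x ∈ gl ++ fl, x < nodes.length) (hp : p.Prime) (hP : B.D.P.p = p)
    (hn : B.D.P.p ^ B.D.P.n = N) (hm : 3265920 = N * m) (hpm : ¬ p ∣ m)
    (hchk : B.check mulP oneP = true) : Applies code0 B p (nodeAt gl) (nodeAt fl) := by
  haveI : Finite ↥S0 := Nat.finite_of_card_ne_zero (by rw [card_S0]; norm_num)
  have hgen : ∀ i < B.D.P.n, code0.enc (nodeAt gl i) = B.D.gens.getD i code0.one :=
    fun i _ => hg ▸ enc_nodeAt gl (fun x hx => hl x (List.mem_append_left _ hx)) i
  have hc := hchk
  simp only [BCert.check, Bool.and_eq_true] at hc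
  obtain ⟨-, hcard⟩ := card_initGroup_of_groupOK code0 B.D (hP.symm ▸ hp) _ hgen hc.1.1.1 hc.1.1.2
  refine ⟨hp, hP, hgen,
    fun i => hf ▸ enc_nodeAt fl (fun x hx => hl x (List.mem_append_right _ hx)) i, ?_, hchk⟩
  rwa [index_initGroup card_S0 (hcard.trans hn) hm]

theorem twoRank_check : twoRankCert.check mulP oneP = true := by decide +kernel
theorem twoExp_check : twoExpCert.check mulP oneP = true := by decide +kernel
theorem threeRank_check : threeRankCert.check mulP oneP = true := by decide +kernel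
theorem threeExp_check : threeExpCert.check mulP oneP = true := by decide +kernel

theorem lists_lt : ∀ x ∈ twoRankGen ++ twoRankFus ++ twoExpGen ++ twoExpFus ++ threeRankGen ++
    threeRankFus ++ threeExpGen ++ threeExpFus, x < nodes.length := by
  decide +kernel

theorem card_schurMult_le : Nat.card (CentralExt.schurMult ↥S0) ≤ 36 := by
  haveI : Finite ↥S0 := Nat.finite_of_card_ne_zero (by rw [card_S0]; norm_num)
  have hpos : Nat.card (CentralExt.schurMult ↥S0) ≠ 0 := Nat.card_pos.ne'
  refine Nat.le_of_dvd (by norm_num) ?_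
  rw [← Nat.factorization_le_iff_dvd hpos (by norm_num)]
  intro p
  by_cases hp : p.Prime
  swap
  · simp [Nat.factorization_eq_zero_of_not_prime _ hp]
  have hl := lists_lt
  simp only [List.mem_append] at hl
  have hmem : ∀ a b : List ℕ, (∀ x ∈ a, x < nodes.length) → (∀ x ∈ b, x < nodes.length) →
      ∀ x ∈ a ++ b, x < nodes.length := fun a b ha hb x hx =>
    (List.mem_append.1 hx).elim (ha x) (hb x)
  rcases eq_or_ne p 2 with rfl | h2
  · refine (SchurSmall.factorization_schurMult_le code0 (k := 2) (r := 1)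
      (applies_cert twoRankCert 2 128 25515 twoRankGen twoRankFus rfl rfl
        (hmem _ _ (fun x h => hl x (by simp [h])) (fun x h => hl x (by simp [h]))) Nat.prime_two rfl
        rfl (by norm_num) (by norm_num) twoRank_check)
      (applies_cert twoExpCert 2 128 25515 twoExpGen twoExpFus rfl rfl
        (hmem _ _ (fun x h => hl x (by simp [h])) (fun x h => hl x (by simp [h]))) Nat.prime_two rfl
        rfl (by norm_num) (by norm_num) twoExp_check)
      rfl rfl le_rfl rfl rfl rfl).trans ?_
    exact (Nat.prime_two.pow_dvd_iff_le_factorization (by norm_num)).1 (by norm_num)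
  rcases eq_or_ne p 3 with rfl | h3
  · refine (SchurSmall.factorization_schurMult_le code0 (k := 1) (r := 2)
      (applies_cert threeRankCert 3 729 4480 threeRankGen threeRankFus rfl rfl
        (hmem _ _ (fun x h => hl x (by simp [h])) (fun x h => hl x (by simp [h]))) Nat.prime_three
        rfl rfl (by norm_num) (by norm_num) threeRank_check)
      (applies_cert threeExpCert 3 729 4480 threeExpGen threeExpFus rfl rfl
        (hmem _ _ (fun x h => hl x (by simp [h])) (fun x h => hl x (by simp [h]))) Nat.prime_three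
        rfl rfl (by norm_num) (by norm_num) threeExp_check)
      rfl rfl le_rfl rfl rfl rfl).trans ?_
    exact (Nat.prime_three.pow_dvd_iff_le_factorization (by norm_num)).1 (by norm_num)
  haveI : Fact p.Prime := ⟨hp⟩
  rw [Nat.factorization_eq_zero_of_not_dvd (not_dvd_schurMult_of_sq_not_dvd p fun hsq => ?_)]
  · exact Nat.zero_le _
  rw [card_S0] at hsq
  have hle : p ^ 2 ≤ 3265920 := Nat.le_of_dvd (by norm_num) hsq
  have hdvd : p ∣ 3265920 := dvd_trans (dvd_pow_self p two_ne_zero) hsq
  have e : (3265920 : ℕ) = 2 ^ 7 * 3 ^ 6 * (5 * 7) := by norm_num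
  rw [e] at hdvd
  rcases hp.dvd_mul.1 hdvd with h | h
  · rcases hp.dvd_mul.1 h with h | h
    · exact h2 ((Nat.prime_dvd_prime_iff_eq hp Nat.prime_two).1 (hp.dvd_of_dvd_pow h))
    · exact h3 ((Nat.prime_dvd_prime_iff_eq hp Nat.prime_three).1 (hp.dvd_of_dvd_pow h))
  · rcases hp.dvd_mul.1 h with h | h
    · obtain rfl := (Nat.prime_dvd_prime_iff_eq hp (by norm_num)).1 h
      norm_num at hsq
    · obtain rfl := (Nat.prime_dvd_prime_iff_eq hp (by norm_num)).1 h
      norm_num at hsq

end Cfsg.Agent.U43Mult
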