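import Cfsg.Agent.Sporadic.McLUnitary
import Cfsg.Agent.SchurCert.Trivial

set_option autoImplicit false

/-!
Codes of the elements of `S0` by their permutations of the 112 vectors, seven bits for each image.
-/

namespace Cfsg.Agent.U43Mult

open Cfsg.Agent.McLUnitary Cfsg.Agent.SchurCert

/-- Packing in seven bits. -/
def pk (f : ℕ → ℕ) : ℕ → ℕ
  | 0 => 0
  | k + 1 => pk f k + f k <<< (7 * k)

/-- An entry of a packed list. -/
def gt (q i : ℕ) : ℕ := (q >>> (7 * i)) &&& 127

theorem pk_spec (f : ℕ → ℕ) : ∀ n : ℕ, (∀ j < n, f j < 128) →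
    pk f n < 2 ^ (7 * n) ∧ ∀ i < n, gt (pk f n) i = f i
  | 0, _ => ⟨by simp [pk], fun i hi => absurd hi (Nat.not_lt_zero i)⟩
  | n + 1, h => by
    obtain ⟨ihb, ihv⟩ := pk_spec f n fun j hj => h j (hj.trans n.lt_succ_self)
    have hfn := h n n.lt_succ_self
    have e : pk f (n + 1) = pk f n + f n * 2 ^ (7 * n) := by
      rw [pk, Nat.shiftLeft_eq]
    have e7 : 2 ^ (7 * (n + 1)) = 2 ^ (7 * n) * 128 := by rw [Nat.mul_succ, pow_add]; rfl
    refine ⟨?_, fun i hi => ?_⟩
    · rw [e, e7]; nlinarith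
    · have hget : ∀ q : ℕ, gt q i = q / 2 ^ (7 * i) % 128 := fun q => by
        rw [gt, Nat.shiftRight_eq_div_pow, show (127 : ℕ) = 2 ^ 7 - 1 from rfl,
          Nat.and_two_pow_sub_one_eq_mod]
      rw [hget, e]
      rcases Nat.lt_or_eq_of_le (Nat.le_of_lt_succ hi) with hlt | rfl
      · have hd : f n * 2 ^ (7 * n) = f n * 2 ^ (7 * (n - i - 1)) * 128 * 2 ^ (7 * i) := by
          have h7 : 7 * n = 7 * (n - i - 1) + 7 + 7 * i := by omega
          conv_lhs => rw [h7, pow_add, pow_add]
          norm_num [Nat.mul_assoc]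
        rw [hd, Nat.add_mul_div_right _ _ (Nat.two_pow_pos _), Nat.add_mul_mod_self_right, ← hget,
          ihv i hlt]
      · rw [Nat.add_mul_div_right _ _ (Nat.two_pow_pos _), Nat.div_eq_of_lt ihb, Nat.zero_add,
          Nat.mod_eq_of_lt hfn]

theorem gt_pk {f : ℕ → ℕ} {n i : ℕ} (h : ∀ j < n, f j < 128) (hi : i < n) : gt (pk f n) i = f i :=
  (pk_spec f n h).2 i hi

theorem pk_congr {f g : ℕ → ℕ} : ∀ {n : ℕ}, (∀ i < n, f i = g i) → pk f n = pk g n
  | 0, _ => rfl
  | n + 1, h => by
    rw [pk, pk, pk_congr fun i hi => h i (hi.trans n.lt_succ_self), h n n.lt_succ_self]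

/-- The product of codes. -/
def mulP (q r : ℕ) : ℕ := pk (fun i => gt q (gt r i)) 112

/-- The code of the identity. -/
def oneP : ℕ := pk (fun i => i) 112

/-- The image of a vector under an element. -/
noncomputable def img (s : ↥S0) (i : Fin 112) : Fin 112 := (exists_nv_smul s.2 i).choose

theorem img_spec (s : ↥S0) (i : Fin 112) : (s : Cfsg.Co0) • nv i = nv (img s i) :=
  (exists_nv_smul s.2 i).choose_spec

theorem img_eq {s : ↥S0} {i j : Fin 112} (h : (s : Cfsg.Co0) • nv i = nv j) : img s i = j :=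
  nv_injective ((img_spec s i).symm.trans h)

/-- The image of a number below 112. -/
noncomputable def imgN (s : ↥S0) (i : ℕ) : ℕ := if h : i < 112 then img s ⟨i, h⟩ else 0

theorem imgN_lt (s : ↥S0) (i : ℕ) : imgN s i < 128 := by
  unfold imgN
  split
  · exact (img s _).2.trans (by norm_num)
  · norm_num

/-- The code of an element. -/
noncomputable def encS (s : ↥S0) : ℕ := pk (imgN s) 112

theorem gt_encS (s : ↥S0) (i : Fin 112) : gt (encS s) i = img s i := by
  rw [encS, gt_pk (fun j _ => imgN_lt s j) i.2, imgN, dif_pos i.2]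

theorem encS_one : encS 1 = oneP :=
  pk_congr fun i hi => by
    rw [imgN, dif_pos hi, img_eq (s := 1) (j := ⟨i, hi⟩) (by simp)]

theorem encS_mul (a b : ↥S0) : encS (a * b) = mulP (encS a) (encS b) :=
  pk_congr fun i hi => by
    rw [imgN, dif_pos hi, gt_encS b ⟨i, hi⟩, gt_encS a,
      img_eq (s := a * b) (j := img a (img b ⟨i, hi⟩)) (by
        rw [Subgroup.coe_mul, mul_smul, img_spec b, img_spec a])]

theorem encS_injective : Function.Injective encS := by
  intro a b h
  refine inv_mul_eq_one.1 (Subtype.ext (faithful ((a⁻¹ * b : ↥S0)).2 fun i => ?_))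
  have e : img a i = img b i := Fin.ext (by rw [← gt_encS a, ← gt_encS b, h])
  rw [Subgroup.coe_mul, mul_smul, img_spec b, ← e, ← img_spec a, Subgroup.coe_inv, inv_smul_smul]

/-- The code on `S0`. -/
noncomputable def code0 : Code ↥S0 where
  mul := mulP
  one := oneP
  enc := encS
  enc_one := encS_one
  enc_mul := encS_mul
  enc_inj := encS_injective

/-- The code of a listed generator. -/
def genCode (k : ℕ) : ℕ := pk (wordIdx [k]) 112

theorem exists_genCode {k : ℕ} (hk : k < 8) : ∃ s : ↥S0, encS s = genCode k := by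
  obtain ⟨s, hs, h⟩ := exists_word_el [k] (by simpa using hk)
  refine ⟨⟨s, hs⟩, pk_congr fun i hi => ?_⟩
  obtain ⟨j, hj, hsj⟩ := h ⟨i, hi⟩
  rw [imgN, dif_pos hi, img_eq (s := ⟨s, hs⟩) hsj, hj]

/-- A listed generator. -/
noncomputable def genEl (k : Fin 8) : ↥S0 := (exists_genCode k.2).choose

theorem enc_genEl (k : Fin 8) : encS (genEl k) = genCode k := (exists_genCode k.2).choose_spec

/-- The subgroup generated by the listed generators. -/
noncomputable def genSub : Subgroup ↥S0 := Subgroup.closure (Set.range genEl)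

end Cfsg.Agent.U43Mult
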