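import Cfsg.Agent.U43Mult.Bound

set_option autoImplicit false
set_option maxRecDepth 20000

/-!
The eight listed elements generate `S0`.
-/

namespace Cfsg.Agent.U43Mult

open Cfsg.Agent.McLUnitary Cfsg.Agent.SchurCert Cfsg.Agent.SchurBound

/-- A listed generator, or one. -/
noncomputable def genElN (k : ℕ) : ↥S0 := if h : k < 8 then genEl ⟨k, h⟩ else 1

/-- Its code. -/
def genCodeN (k : ℕ) : ℕ := if k < 8 then genCode k else oneP

/-- The code of a product of generators. -/
def evalCode : List ℕ → ℕ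
  | [] => oneP
  | k :: w => mulP (genCodeN k) (evalCode w)

theorem enc_genElN (k : ℕ) : encS (genElN k) = genCodeN k := by
  unfold genElN genCodeN
  split
  · exact enc_genEl _
  · exact encS_one

theorem enc_prod : ∀ w : List ℕ, encS (w.map genElN).prod = evalCode w
  | [] => encS_one
  | k :: w => by rw [List.map_cons, List.prod_cons, encS_mul, enc_genElN, enc_prod w, evalCode]

theorem genElN_mem (k : ℕ) : genElN k ∈ genSub := by
  unfold genElN
  split
  · exact Subgroup.subset_closure ⟨_, rfl⟩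
  · exact one_mem _

theorem orders_ok : (Nat.beq (evalCode (List.replicate 5 2)) oneP &&
    !(Nat.beq (genCodeN 2) oneP) && Nat.beq (evalCode (List.replicate 7 0)) oneP &&
    !(Nat.beq (genCodeN 0) oneP)) = true := by
  decide +kernel

theorem orderOf_genElN {k p : ℕ} (hp : p.Prime)
    (h1 : Nat.beq (evalCode (List.replicate p k)) oneP = true)
    (h2 : (!(Nat.beq (genCodeN k) oneP)) = true) : orderOf (genElN k) = p := by
  haveI : Fact p.Prime := ⟨hp⟩
  refine orderOf_eq_prime ?_ fun h => ?_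
  · apply encS_injective
    rw [encS_one, ← List.prod_replicate, ← List.map_replicate, enc_prod]
    exact Nat.eq_of_beq_eq_true h1
  · rw [← enc_genElN, h, encS_one, Nat.beq_refl] at h2
    exact Bool.noConfusion h2

theorem genSub_eq_top : genSub = ⊤ := by
  haveI : Finite ↥S0 := Nat.finite_of_card_ne_zero (by rw [card_S0]; norm_num)
  have h := orders_ok
  simp only [Bool.and_eq_true] at h
  obtain ⟨⟨⟨h5, h5'⟩, h7⟩, h7'⟩ := h
  have hx : ∀ (k p : ℕ), orderOf (genElN k) = p → p ∣ Nat.card ↥genSub := fun k p hk => by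
    rw [← hk]
    exact (Subgroup.orderOf_coe (⟨genElN k, genElN_mem k⟩ : ↥genSub)) ▸ orderOf_dvd_natCard _
  have hl := lists_lt
  simp only [List.mem_append] at hl
  have hP : ∀ (B : BCert) (p : ℕ) (gl : List ℕ), p.Prime → B.D.P.p = p →
      B.D.gens = gl.map (nodes.getD · 0) → (∀ x ∈ gl, x < nodes.length) →
      B.check mulP oneP = true → B.D.P.p ^ B.D.P.n ∣ Nat.card ↥genSub := by
    intro B p gl hp hpB hg hgl hc
    simp only [BCert.check, Bool.and_eq_true] at hc
    obtain ⟨-, hcard⟩ := card_initGroup_of_groupOK code0 B.D (hpB.symm ▸ hp) (nodeAt gl)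
      (fun i _ => hg ▸ enc_nodeAt gl hgl i) hc.1.1.1 hc.1.1.2
    exact hcard ▸ Subgroup.card_dvd_of_le (initGroup_le gl hgl _)
  have c2 : 128 ∣ Nat.card ↥genSub := hP twoRankCert 2 twoRankGen Nat.prime_two rfl rfl
    (fun x hx => hl x (by simp [hx])) twoRank_check
  have c3 : 729 ∣ Nat.card ↥genSub := hP threeRankCert 3 threeRankGen Nat.prime_three rfl rfl
    (fun x hx => hl x (by simp [hx])) threeRank_check
  have c5 := hx 2 5 (orderOf_genElN (by norm_num) h5 h5')
  have c7 := hx 0 7 (orderOf_genElN (by norm_num) h7 h7')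
  have hall : 128 * 729 * 5 * 7 ∣ Nat.card ↥genSub :=
    Nat.Coprime.mul_dvd_of_dvd_of_dvd (by norm_num)
      (Nat.Coprime.mul_dvd_of_dvd_of_dvd (by norm_num)
        (Nat.Coprime.mul_dvd_of_dvd_of_dvd (by norm_num) c2 c3) c5) c7
  apply Subgroup.eq_top_of_card_eq
  refine Nat.dvd_antisymm (Subgroup.card_subgroup_dvd_card _) ?_
  rw [card_S0]
  exact hall

end Cfsg.Agent.U43Mult
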