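import Cfsg.Agent.U43Mult.Lin
import Cfsg.Agent.U43Mult.Generate

set_option autoImplicit false

/-!
Two triple covers of `S0` as groups of permutations of 378 vectors.
-/

namespace Cfsg.Agent.U43Mult

open Cfsg.Agent.McLUnitary

/-- Multiplication by the scalar, on the indices. -/
def tau : Equiv.Perm (Fin 378) where
  toFun i := ⟨shift i 1, by have := i.2; unfold shift; omega⟩
  invFun i := ⟨shift i 2, by have := i.2; unfold shift; omega⟩
  left_inv i := Fin.ext (by show shift (shift i 1) 2 = i; unfold shift; omega)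
  right_inv i := Fin.ext (by show shift (shift i 2) 1 = i; unfold shift; omega)

theorem tau_pow_apply (i : Fin 378) : ∀ s : ℕ, ((tau ^ s) i : ℕ) = shift i s
  | 0 => by
    show (i : ℕ) = shift i 0
    unfold shift; omega
  | s + 1 => by
    rw [pow_succ', Equiv.Perm.mul_apply]
    show shift ((tau ^ s) i : ℕ) 1 = _
    rw [tau_pow_apply i s]
    unfold shift; omega

/-- A permutation is given by a table and the table of its inverse. -/
def pairOK (q r : ℕ) : Bool :=
  (List.range 378).all fun i =>
    Nat.blt (gt9 q i) 378 && Nat.blt (gt9 r i) 378 && Nat.beq (gt9 r (gt9 q i)) i &&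
      Nat.beq (gt9 q (gt9 r i)) i

/-- The permutation given by two tables. -/
def permOf (q r : ℕ) : Equiv.Perm (Fin 378) :=
  if h : pairOK q r = true then
    { toFun := fun i => ⟨gt9 q i, by
        have h' := List.all_eq_true.1 h i (List.mem_range.2 i.2)
        simp only [Bool.and_eq_true, Nat.blt_eq] at h'
        exact h'.1.1.1⟩
      invFun := fun i => ⟨gt9 r i, by
        have h' := List.all_eq_true.1 h i (List.mem_range.2 i.2)
        simp only [Bool.and_eq_true, Nat.blt_eq] at h'
        exact h'.1.1.2⟩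
      left_inv := fun i => by
        have h' := List.all_eq_true.1 h i (List.mem_range.2 i.2)
        simp only [Bool.and_eq_true] at h'
        exact Fin.ext (Nat.eq_of_beq_eq_true h'.1.2)
      right_inv := fun i => by
        have h' := List.all_eq_true.1 h i (List.mem_range.2 i.2)
        simp only [Bool.and_eq_true] at h'
        exact Fin.ext (Nat.eq_of_beq_eq_true h'.2) }
  else 1

theorem permOf_apply {q r : ℕ} (h : pairOK q r = true) (i : Fin 378) :
    (permOf q r i : ℕ) = gt9 q i := by
  rw [permOf, dif_pos h]; rfl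

/-- The data of a triple cover. -/
structure Comp where
  /-- The permutations of the vectors. -/
  perms : List ℕ
  /-- Their inverses. -/
  invs : List ℕ
  /-- Their linear extensions. -/
  lins : List ℕ
  /-- The incidence of lines and points. -/
  rows : ℕ

namespace Comp

variable (C : Comp)

/-- A generator of the cover. -/
def perm (k : ℕ) : Equiv.Perm (Fin 378) := permOf (C.perms.getD k 0) (C.invs.getD k 0)

/-- The checks on a generator. -/
def genOK (k : ℕ) : Bool :=
  let q := C.perms.getD k 0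
  let g := nodes.getD k 0
  let L := C.lins.getD k 0
  pairOK q (C.invs.getD k 0) &&
    ((List.range 378).all fun i => Nat.beq (gt9 q (shift i 1)) (shift (gt9 q i) 1) &&
      Nat.beq (lin (gt12 L) 12 (vecAt i)) (vecAt (gt9 q i))) &&
    (List.range 126).all fun a =>
      let img := rowAt C.rows (gt9 q (3 * a) / 3)
      let src := rowAt C.rows a
      (List.range 112).all fun j => img.testBit (gt g j) == src.testBit j

/-- The lines are determined by their points. -/
def rowsOK : Bool :=
  (List.range 126).all fun a => (List.range a).all fun b =>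
    !(Nat.beq (rowAt C.rows a) (rowAt C.rows b))

/-- All checks. -/
def OK : Prop := (∀ k < 8, C.genOK k = true) ∧ C.rowsOK = true

/-- The permutation of the vectors is linear and lifts the element. -/
structure Good (x : Equiv.Perm (Fin 378)) (s : ↥S0) : Prop where
  comm : x * tau = tau * x
  inc : ∀ (i : Fin 378) (j : Fin 112),
    (rowAt C.rows ((x i : ℕ) / 3)).testBit (img s j) = (rowAt C.rows ((i : ℕ) / 3)).testBit j
  lin : ∃ F, Additive' F ∧ ∀ i : Fin 378, F (vecAt i) = vecAt (x i : ℕ)

theorem good_one : C.Good 1 1 where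
  comm := by rw [one_mul, mul_one]
  inc := fun i j => by rw [img_eq (s := (1 : ↥S0)) (j := j) (by simp)]; rfl
  lin := ⟨id, fun _ _ => rfl, fun _ => rfl⟩

theorem good_mul {x y : Equiv.Perm (Fin 378)} {s t : ↥S0} (hx : C.Good x s) (hy : C.Good y t) :
    C.Good (x * y) (s * t) where
  comm := by rw [mul_assoc, hy.comm, ← mul_assoc, hx.comm, mul_assoc]
  inc := fun i j => by
    rw [img_eq (s := s * t) (j := img s (img t j)) (by
      rw [Subgroup.coe_mul, mul_smul, img_spec t, img_spec s]), Equiv.Perm.mul_apply, hx.inc, hy.inc]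
  lin := by
    obtain ⟨F, hF, hFx⟩ := hx.lin
    obtain ⟨G, hG, hGy⟩ := hy.lin
    exact ⟨F ∘ G, fun a b => by simp only [Function.comp_apply, hG a b]; exact hF _ _,
      fun i => by rw [Function.comp_apply, hGy, hFx, Equiv.Perm.mul_apply]⟩

theorem good_pow {x : Equiv.Perm (Fin 378)} {s : ↥S0} (h : C.Good x s) :
    ∀ n : ℕ, C.Good (x ^ n) (s ^ n)
  | 0 => by simpa using C.good_one
  | n + 1 => by rw [pow_succ, pow_succ]; exact C.good_mul (good_pow h n) h

theorem good_perm (hC : C.OK) (k : Fin 8) : C.Good (C.perm k) (genEl k) := by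
  have h := hC.1 k k.2
  simp only [genOK, Bool.and_eq_true, List.all_eq_true, List.mem_range, beq_iff_eq] at h
  obtain ⟨⟨hp, hv⟩, hi⟩ := h
  have hap : ∀ i : Fin 378, (C.perm k i : ℕ) = gt9 (C.perms.getD k 0) i := permOf_apply hp
  have himg : ∀ j : Fin 112, (img (genEl k) j : ℕ) = gt (nodes.getD k 0) j := fun j => by
    have h := nodesOK_eq
    simp only [nodesOK, Bool.and_eq_true, List.all_eq_true, List.mem_range] at h
    rw [← gt_encS, enc_genEl, Nat.eq_of_beq_eq_true (h.1.1.2 k k.2)]
  refine ⟨Equiv.ext fun i => Fin.ext ?_, fun i j => ?_, ⟨_, lin_xor (gt12 (C.lins.getD k 0)) (k := 12), fun i => ?_⟩⟩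
  · rw [Equiv.Perm.mul_apply, Equiv.Perm.mul_apply, hap]
    show gt9 _ (shift i 1) = shift (C.perm k i : ℕ) 1
    rw [hap]
    exact Nat.eq_of_beq_eq_true (hv i i.2).1
  · rw [hap, himg]
    have e : gt9 (C.perms.getD k 0) i / 3 = gt9 (C.perms.getD k 0) (3 * ((i : ℕ) / 3)) / 3 := by
      have h1 : ∀ a < 378, gt9 (C.perms.getD k 0) (shift a 1) / 3 =
          gt9 (C.perms.getD k 0) a / 3 := fun a ha => by
        rw [Nat.eq_of_beq_eq_true (hv a ha).1]
        unfold shift; omega
      have hlt := i.2
      rcases (show (i : ℕ) % 3 = 0 ∨ (i : ℕ) % 3 = 1 ∨ (i : ℕ) % 3 = 2 by omega) with h0 | h0 | h0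
      · rw [show 3 * ((i : ℕ) / 3) = i by omega]
      · rw [← h1 (3 * ((i : ℕ) / 3)) (by omega),
          show shift (3 * ((i : ℕ) / 3)) 1 = i by unfold shift; omega]
      · rw [← h1 i hlt, show shift i 1 = 3 * ((i : ℕ) / 3) by unfold shift; omega]
    rw [e]
    exact hi ((i : ℕ) / 3) (by have := i.2; omega) j j.2
  · rw [hap]
    exact Nat.eq_of_beq_eq_true (hv i i.2).2

/-- Over the identity there are only scalars. -/
theorem eq_tau_pow (hC : C.OK) {x : Equiv.Perm (Fin 378)} (h : C.Good x 1) :
    ∃ s < 3, x = tau ^ s := by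
  have hline : ∀ i : Fin 378, (x i : ℕ) / 3 = (i : ℕ) / 3 := by
    intro i
    have hrow : rowAt C.rows ((x i : ℕ) / 3) = rowAt C.rows ((i : ℕ) / 3) := by
      refine Nat.eq_of_testBit_eq fun j => ?_
      by_cases hj : j < 112
      · have := h.inc i ⟨j, hj⟩
        rwa [img_eq (s := (1 : ↥S0)) (j := ⟨j, hj⟩) (by simp)] at this
      · simp only [rowAt, Nat.testBit_and, Nat.testBit_two_pow_sub_one, decide_eq_false hj,
          Bool.and_false]
    have hR := hC.2
    simp only [rowsOK, List.all_eq_true, List.mem_range] at hR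
    have h1 := (x i).2
    have h2 := i.2
    by_contra hne
    rcases Nat.lt_or_gt_of_ne hne with hl | hl
    · have h3 := hR _ (by omega) _ hl
      rw [hrow, Nat.beq_refl] at h3
      exact Bool.noConfusion h3
    · have h3 := hR _ (by omega) _ hl
      rw [hrow, Nat.beq_refl] at h3
      exact Bool.noConfusion h3
  let e : ℕ → ℕ := fun i => if hi : i < 378 then (x ⟨i, hi⟩ : ℕ) else 0
  have hecoe : ∀ i : Fin 378, e i = (x i : ℕ) := fun i => by simp [e]
  obtain ⟨F, hF, hFx⟩ := h.lin
  obtain ⟨s, hs, hes⟩ := eq_shift_of_additive e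
    (fun i hi => by rw [hecoe ⟨i, hi⟩]; exact ⟨(x _).2, hline ⟨i, hi⟩⟩)
    (fun i hi => by
      have h1 := congrArg (fun p : Equiv.Perm (Fin 378) => ((p ⟨i, hi⟩ : Fin 378) : ℕ)) h.comm
      simp only [Equiv.Perm.mul_apply] at h1
      have h2 : e (shift i 1) = ((x (tau ⟨i, hi⟩) : Fin 378) : ℕ) := hecoe (tau ⟨i, hi⟩)
      rw [h2, h1, hecoe ⟨i, hi⟩]
      rfl)
    hF (fun i hi => by rw [hecoe ⟨i, hi⟩]; exact hFx ⟨i, hi⟩)
  exact ⟨s, hs, Equiv.ext fun i => Fin.ext (by
    rw [tau_pow_apply, ← hecoe, hes i i.2])⟩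

end Comp

/-- The first cover. -/
def compA : Comp := ⟨permsA, invsA, linsA, rowsA⟩

/-- The second cover. -/
def compB : Comp := ⟨permsB, invsB, linsB, rowsB⟩

theorem compA_ok : compA.OK := by unfold Comp.OK; decide +kernel

theorem compB_ok : compB.OK := by unfold Comp.OK; decide +kernel

/-- The group containing both covers. -/
abbrev Big : Type := Equiv.Perm (Fin 378) × Equiv.Perm (Fin 378) × ↥S0

/-- A common lift of a generator. -/
noncomputable def lift3 (k : Fin 8) : Big := (compA.perm k, compB.perm k, genEl k)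

/-- The group generated by the lifts. -/
noncomputable def W : Subgroup Big := Subgroup.closure (Set.range lift3)

theorem good_W {g : Big} (hg : g ∈ W) : compA.Good g.1 g.2.2 ∧ compB.Good g.2.1 g.2.2 := by
  haveI : Finite ↥S0 := Nat.finite_of_card_ne_zero (by rw [card_S0]; norm_num)
  induction hg using Subgroup.closure_induction with
  | mem x hx =>
    obtain ⟨k, rfl⟩ := hx
    exact ⟨compA.good_perm compA_ok k, compB.good_perm compB_ok k⟩
  | one => exact ⟨compA.good_one, compB.good_one⟩
  | mul x y _ _ hx hy => exact ⟨compA.good_mul hx.1 hy.1, compB.good_mul hx.2 hy.2⟩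
  | inv x _ hx =>
    have e : x⁻¹ = x ^ (orderOf x - 1) := by
      refine inv_eq_of_mul_eq_one_right ?_
      rw [← pow_succ', Nat.sub_add_cancel (orderOf_pos x), pow_orderOf_eq_one]
    rw [e]
    exact ⟨compA.good_pow hx.1 _, compB.good_pow hx.2 _⟩

theorem ker_W {g : Big} (hg : g ∈ W) (h : g.2.2 = 1) :
    ∃ a < 3, ∃ b < 3, g = (tau ^ a, tau ^ b, 1) := by
  obtain ⟨hA, hB⟩ := good_W hg
  rw [h] at hA hB
  obtain ⟨a, ha, ea⟩ := compA.eq_tau_pow compA_ok hA
  obtain ⟨b, hb, eb⟩ := compB.eq_tau_pow compB_ok hB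
  exact ⟨a, ha, b, hb, Prod.ext ea (Prod.ext eb h)⟩

end Cfsg.Agent.U43Mult
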