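import Cfsg.Agent.CentralExt.Basic

set_option autoImplicit false

/-!
Stem extensions from central extensions of perfect groups, and fibre products.
-/

namespace Cfsg.Agent.U43Mult

open Subgroup
open scoped commutatorElement

/-- The commutator subgroup of a central extension of a perfect group is a stem extension. -/
theorem isStem_commutator {W G : Type*} [Group W] [Group G] (f : W →* G)
    (hf : Function.Surjective f) (hker : f.ker ≤ center W) (hG : commutator G = ⊤) :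
    Cfsg.IsStemExtension (f.comp (commutator W).subtype) := by
  have hmap : (commutator W).map f = ⊤ := by
    rw [commutator_def, Subgroup.map_commutator, Subgroup.map_top_of_surjective f hf]
    exact hG
  have hsurj : Function.Surjective (f.comp (commutator W).subtype) := by
    intro g
    obtain ⟨w, hw, e⟩ := (show g ∈ (commutator W).map f by rw [hmap]; trivial)
    exact ⟨⟨w, hw⟩, e⟩
  have hperf : ∀ w ∈ commutator W, ∃ d : commutator W, d ∈ commutator (commutator W) ∧ (d : W) = w := by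
    intro w hw
    have hle : commutator W ≤ (commutator (commutator W)).map (commutator W).subtype := by
      conv_lhs => rw [commutator_def]
      refine Subgroup.commutator_le.2 fun a _ b _ => ?_
      obtain ⟨a', ha'⟩ := hsurj (f a)
      obtain ⟨b', hb'⟩ := hsurj (f b)
      have ka : (a' : W)⁻¹ * a ∈ center W := hker (by
        rw [MonoidHom.mem_ker, map_mul, map_inv, show f a' = f a from ha', inv_mul_cancel])
      have kb : (b' : W)⁻¹ * b ∈ center W := hker (by
        rw [MonoidHom.mem_ker, map_mul, map_inv, show f b' = f b from hb', inv_mul_cancel])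
      have e : ⁅a, b⁆ = ⁅(a' : W), (b' : W)⁆ := by
        generalize hz : (a' : W)⁻¹ * a = z at ka
        generalize hy : (b' : W)⁻¹ * b = y at kb
        rw [inv_mul_eq_iff_eq_mul] at hz hy
        subst hz hy
        have hzc : ∀ t : W, t * z = z * t := Subgroup.mem_center_iff.1 ka
        have hyc : ∀ t : W, t * y = y * t := Subgroup.mem_center_iff.1 kb
        simp only [commutatorElement_def, mul_inv_rev]
        calc (a' : W) * z * ((b' : W) * y) * (z⁻¹ * (a' : W)⁻¹) * (y⁻¹ * (b' : W)⁻¹)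
            = (a' : W) * (z * (((b' : W) * y) * z⁻¹)) * (a' : W)⁻¹ * y⁻¹ * (b' : W)⁻¹ := by group
          _ = (a' : W) * ((b' : W) * y) * (a' : W)⁻¹ * y⁻¹ * (b' : W)⁻¹ := by
              rw [← mul_assoc z, ← hzc, mul_inv_cancel_right]
          _ = (a' : W) * (b' : W) * (y * ((a' : W)⁻¹ * y⁻¹)) * (b' : W)⁻¹ := by group
          _ = (a' : W) * (b' : W) * (a' : W)⁻¹ * (b' : W)⁻¹ := by
              rw [← mul_assoc y, ← hyc, mul_inv_cancel_right]
      rw [e]
      exact ⟨⁅a', b'⁆, Subgroup.commutator_mem_commutator (mem_top _) (mem_top _),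
        map_commutatorElement _ _ _⟩
    obtain ⟨d, hd, e⟩ := hle hw
    exact ⟨d, hd, e⟩
  refine ⟨hsurj, fun x hx => ?_, fun x _ => ?_⟩
  · rw [Subgroup.mem_center_iff]
    intro y
    exact Subtype.ext (Subgroup.mem_center_iff.1 (hker hx) y)
  · obtain ⟨d, hd, e⟩ := hperf x x.2
    rwa [Subtype.ext e] at hd

variable {G D₁ D₂ : Type*} [Group G] [Group D₁] [Group D₂]

/-- The fibre product of two homomorphisms. -/
def fibre (f₁ : D₁ →* G) (f₂ : D₂ →* G) : Subgroup (D₁ × D₂) :=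
  MonoidHom.eqLocus (f₁.comp (MonoidHom.fst D₁ D₂)) (f₂.comp (MonoidHom.snd D₁ D₂))

/-- Two stem extensions with kernels of coprime order combine to one. -/
theorem exists_stem_fibre {A B : Type*} [CommGroup A] [CommGroup B]
    {f₁ : D₁ →* G} {f₂ : D₂ →* G} (h₁ : Cfsg.IsStemExtension f₁) (h₂ : Cfsg.IsStemExtension f₂)
    (hperf₁ : commutator D₁ = ⊤) (hperf₂ : commutator D₂ = ⊤) {m n : ℕ} (hmn : m.Coprime n)
    (hA : ∀ z ∈ f₁.ker, z ^ m = 1) (hB : ∀ z ∈ f₂.ker, z ^ n = 1)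
    (eA : f₁.ker ≃* A) (eB : f₂.ker ≃* B) :
    Cfsg.IsStemExtension ((f₁.comp (MonoidHom.fst D₁ D₂)).comp (fibre f₁ f₂).subtype) ∧
      Nonempty (((f₁.comp (MonoidHom.fst D₁ D₂)).comp (fibre f₁ f₂).subtype).ker ≃* (A × B)) := by
  set E := fibre f₁ f₂ with hE
  set σ := (f₁.comp (MonoidHom.fst D₁ D₂)).comp E.subtype with hσ
  have hmem : ∀ p : D₁ × D₂, p ∈ E ↔ f₁ p.1 = f₂ p.2 := fun p => Iff.rfl
  have hk : ∀ x : E, x ∈ σ.ker ↔ (x : D₁ × D₂).1 ∈ f₁.ker ∧ (x : D₁ × D₂).2 ∈ f₂.ker := by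
    intro x
    have hx := (hmem x).1 x.2
    simp only [MonoidHom.mem_ker, hσ, MonoidHom.comp_apply, Subgroup.coe_subtype,
      MonoidHom.coe_fst]
    exact ⟨fun h => ⟨h, hx ▸ h⟩, fun h => h.1⟩
  -- The derived subgroup projects onto both factors.
  have hp₁ : Function.Surjective ((MonoidHom.fst D₁ D₂).comp E.subtype) := fun a => by
    obtain ⟨b, hb⟩ := h₂.1 (f₁ a)
    exact ⟨⟨(a, b), hb.symm⟩, rfl⟩
  have hp₂ : Function.Surjective ((MonoidHom.snd D₁ D₂).comp E.subtype) := fun b => by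
    obtain ⟨a, ha⟩ := h₁.1 (f₂ b)
    exact ⟨⟨(a, b), ha⟩, rfl⟩
  have hc₁ : (commutator E).map ((MonoidHom.fst D₁ D₂).comp E.subtype) = ⊤ := by
    rw [commutator_def, Subgroup.map_commutator, Subgroup.map_top_of_surjective _ hp₁]
    exact hperf₁
  have hc₂ : (commutator E).map ((MonoidHom.snd D₁ D₂).comp E.subtype) = ⊤ := by
    rw [commutator_def, Subgroup.map_commutator, Subgroup.map_top_of_surjective _ hp₂]
    exact hperf₂
  have hEsurj : Function.Surjective σ := fun g => by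
    obtain ⟨a, rfl⟩ := h₁.1 g
    obtain ⟨x, hx⟩ := hp₁ a
    exact ⟨x, by rw [← hx]; rfl⟩
  refine ⟨⟨hEsurj, fun x hx => ?_, fun x hx => ?_⟩, ⟨?_⟩⟩
  · obtain ⟨a, b⟩ := (hk x).1 hx
    rw [Subgroup.mem_center_iff]
    exact fun y => Subtype.ext (Prod.ext (Subgroup.mem_center_iff.1 (h₁.2.1 a) _)
      (Subgroup.mem_center_iff.1 (h₂.2.1 b) _))
  · obtain ⟨ha, hb⟩ := (hk x).1 hx
    obtain ⟨u, v, huv⟩ : ∃ u v : ℤ, (n : ℤ) * u + (m : ℤ) * v = 1 :=
      by
        obtain ⟨u, v, huv⟩ := (Nat.isCoprime_iff_coprime.2 hmn.symm : IsCoprime (n : ℤ) (m : ℤ))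
        exact ⟨u, v, by linarith⟩
    obtain ⟨c, hc, hc'⟩ := (show (x : D₁ × D₂).1 ∈
      (commutator E).map ((MonoidHom.fst D₁ D₂).comp E.subtype) by rw [hc₁]; trivial)
    obtain ⟨d, hd, hd'⟩ := (show (x : D₁ × D₂).2 ∈
      (commutator E).map ((MonoidHom.snd D₁ D₂).comp E.subtype) by rw [hc₂]; trivial)
    change (c : D₁ × D₂).1 = _ at hc'
    change (d : D₁ × D₂).2 = _ at hd'
    have c2 : (c : D₁ × D₂).2 ∈ f₂.ker := by
      rw [MonoidHom.mem_ker, ← (hmem c).1 c.2, hc']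
      exact MonoidHom.mem_ker.1 ha
    have d1 : (d : D₁ × D₂).1 ∈ f₁.ker := by
      rw [MonoidHom.mem_ker, (hmem d).1 d.2, hd']
      exact MonoidHom.mem_ker.1 hb
    have e : x = (c ^ (n : ℤ)) ^ u * (d ^ (m : ℤ)) ^ v := by
      refine Subtype.ext (Prod.ext ?_ ?_)
      · simp only [Subgroup.coe_mul, SubgroupClass.coe_zpow, Prod.fst_mul, Prod.pow_fst, hc']
        have h1 : ((d : D₁ × D₂).1 ^ (m : ℤ)) = 1 := by rw [zpow_natCast]; exact hA _ d1
        have h2 : (x : D₁ × D₂).1 ^ (m : ℤ) = 1 := by rw [zpow_natCast]; exact hA _ ha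
        rw [h1, one_zpow, mul_one, ← zpow_mul]
        calc (x : D₁ × D₂).1 = (x : D₁ × D₂).1 ^ ((n : ℤ) * u + (m : ℤ) * v) := by
              rw [huv, zpow_one]
          _ = _ := by rw [zpow_add, zpow_mul _ (m : ℤ) v, h2, one_zpow, mul_one]
      · simp only [Subgroup.coe_mul, SubgroupClass.coe_zpow, Prod.snd_mul, Prod.pow_snd, hd']
        have h1 : ((c : D₁ × D₂).2 ^ (n : ℤ)) = 1 := by rw [zpow_natCast]; exact hB _ c2
        have h2 : (x : D₁ × D₂).2 ^ (n : ℤ) = 1 := by rw [zpow_natCast]; exact hB _ hb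
        rw [h1, one_zpow, one_mul, ← zpow_mul]
        calc (x : D₁ × D₂).2 = (x : D₁ × D₂).2 ^ ((n : ℤ) * u + (m : ℤ) * v) := by
              rw [huv, zpow_one]
          _ = _ := by rw [zpow_add, zpow_mul _ (n : ℤ) u, h2, one_zpow, one_mul]
    rw [e]
    exact mul_mem (zpow_mem (zpow_mem hc _) _) (zpow_mem (zpow_mem hd _) _)
  · refine MulEquiv.trans ?_ (MulEquiv.prodCongr eA eB)
    exact
      { toFun := fun x => (⟨_, ((hk x.1).1 x.2).1⟩, ⟨_, ((hk x.1).1 x.2).2⟩)
        invFun := fun p => ⟨⟨(p.1.1, p.2.1), (MonoidHom.mem_ker.1 p.1.2).trans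
          (MonoidHom.mem_ker.1 p.2.2).symm⟩, MonoidHom.mem_ker.1 p.1.2⟩
        left_inv := fun _ => rfl
        right_inv := fun _ => rfl
        map_mul' := fun _ _ => rfl }

end Cfsg.Agent.U43Mult
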