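import Cfsg.Agent.U43Mult.CoverData
import Mathlib.Data.Nat.Bitwise
import Mathlib.Tactic

set_option autoImplicit false
set_option maxRecDepth 20000

/-!
Linear maps on vectors packed as numbers, and the two scalar-labelled bases of 378 vectors.
-/

namespace Cfsg.Agent.U43Mult

/-- An entry of twelve bits. -/
def gt12 (q i : ℕ) : ℕ := (q >>> (12 * i)) &&& 4095

/-- An entry of nine bits. -/
def gt9 (q i : ℕ) : ℕ := (q >>> (9 * i)) &&& 511

/-- An entry of 112 bits. -/
def rowAt (rows a : ℕ) : ℕ := (rows >>> (112 * a)) &&& (2 ^ 112 - 1)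

/-- The vectors. -/
def vecAt (i : ℕ) : ℕ := gt12 vecs i

/-- The index of a scalar multiple. -/
def shift (i s : ℕ) : ℕ := i / 3 * 3 + (i + s) % 3

/-- The map with given images of the unit vectors, on the lowest `k` bits. -/
def lin (im : ℕ → ℕ) : ℕ → ℕ → ℕ
  | 0, _ => 0
  | k + 1, x => if x.testBit k then lin im k x ^^^ im k else lin im k x

theorem lin_xor (im : ℕ → ℕ) (x y : ℕ) :
    ∀ k, lin im k (x ^^^ y) = lin im k x ^^^ lin im k y
  | 0 => by simp [lin]
  | k + 1 => by
    simp only [lin, Nat.testBit_xor, lin_xor im x y k]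
    cases x.testBit k <;> cases y.testBit k <;>
      simp [Nat.xor_assoc, Nat.xor_comm, Nat.xor_left_comm]

/-- An additive map on packed vectors. -/
def Additive' (F : ℕ → ℕ) : Prop := ∀ x y, F (x ^^^ y) = F x ^^^ F y

theorem Additive'.zero {F : ℕ → ℕ} (hF : Additive' F) : F 0 = 0 := by
  have h := hF 0 0
  simpa using h

theorem map_lin {F : ℕ → ℕ} (hF : Additive' F) (im : ℕ → ℕ) (c : ℕ) :
    ∀ k, F (lin im k c) = lin (fun n => F (im n)) k c
  | 0 => hF.zero
  | k + 1 => by
    simp only [lin]
    split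
    · rw [hF, map_lin hF im c k]
    · exact map_lin hF im c k

theorem lin_congr {f g : ℕ → ℕ} (c : ℕ) : ∀ k, (∀ n < k, f n = g n) → lin f k c = lin g k c
  | 0, _ => rfl
  | k + 1, h => by
    simp only [lin, lin_congr c k fun n hn => h n (hn.trans k.lt_succ_self), h k k.lt_succ_self]

/-- Multiplication by the scalar. -/
def scal (x : ℕ) : ℕ := lin (gt12 scalarImgs) 12 x

theorem additive_scal_iterate : ∀ s, Additive' (scal^[s])
  | 0 => fun _ _ => rfl
  | s + 1 => fun x y => by
    simp only [Function.iterate_succ', Function.comp_apply, additive_scal_iterate s x y]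
    exact lin_xor _ _ _ _

/-- The checks on the vectors. -/
def vectorsOK : Bool :=
  (List.range 378).all fun i =>
    Nat.beq (vecAt i) (lin (gt12 baseImgs) 12 (gt12 combs i)) &&
      Nat.beq (scal (vecAt i)) (vecAt (shift i 1)) &&
      (List.range i).all fun j => !(Nat.beq (vecAt i) (vecAt j))

theorem vectorsOK_eq : vectorsOK = true := by decide +kernel

theorem vectors_spec {i : ℕ} (hi : i < 378) :
    vecAt i = lin (gt12 baseImgs) 12 (gt12 combs i) ∧ scal (vecAt i) = vecAt (shift i 1) := by
  have h := List.all_eq_true.1 vectorsOK_eq i (List.mem_range.2 hi)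
  simp only [Bool.and_eq_true] at h
  exact ⟨Nat.eq_of_beq_eq_true h.1.1, Nat.eq_of_beq_eq_true h.1.2⟩

theorem vecAt_injective {i j : ℕ} (hi : i < 378) (hj : j < 378) (h : vecAt i = vecAt j) :
    i = j := by
  have key : ∀ a b, b < a → a < 378 → vecAt a ≠ vecAt b := by
    intro a b hba ha e
    have h := List.all_eq_true.1 vectorsOK_eq a (List.mem_range.2 ha)
    simp only [Bool.and_eq_true] at h
    have h2 := List.all_eq_true.1 h.2 b (List.mem_range.2 hba)
    rw [e, Nat.beq_refl] at h2
    exact Bool.noConfusion h2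
  rcases Nat.lt_trichotomy i j with hl | he | hl
  · exact absurd h.symm (key j i hl hj)
  · exact he
  · exact absurd h (key i j hl hi)

theorem scal_iterate {i : ℕ} (hi : i < 378) :
    ∀ s, scal^[s] (vecAt i) = vecAt (shift i s)
  | 0 => by
    have e : shift i 0 = i := by unfold shift; omega
    rw [e]; rfl
  | s + 1 => by
    have hlt : shift i s < 378 := by unfold shift; omega
    have e : shift (shift i s) 1 = shift i (s + 1) := by unfold shift; omega
    rw [Function.iterate_succ', Function.comp_apply, scal_iterate hi s, (vectors_spec hlt).2, e]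

/-- The checks on the chosen vectors: seven scalars that respect the sum are equal. -/
def scalarsOK : Bool :=
  Nat.beq (vecAt sumIdx) ((sixIdx.map vecAt).foldl (· ^^^ ·) 0) && Nat.beq sixIdx.length 6 &&
    sixIdx.all (fun i => Nat.blt i 378) && Nat.blt sumIdx 378 &&
    ((List.range 6).all fun k =>
      Nat.beq (gt12 baseImgs (2 * k)) (vecAt (sixIdx.getD k 0)) &&
        Nat.beq (gt12 baseImgs (2 * k + 1)) (vecAt (shift (sixIdx.getD k 0) 1))) &&
    ((List.range 2187).all fun t =>
      let s := fun k => t / 3 ^ k % 3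
      !(Nat.beq (((List.range 6).map fun k => vecAt (shift (sixIdx.getD k 0) (s k))).foldl
          (· ^^^ ·) 0) (vecAt (shift sumIdx (s 6)))) ||
        (List.range 6).all fun k => Nat.beq (s k) (s 6))

theorem scalarsOK_eq : scalarsOK = true := by decide +kernel

theorem foldl_xor_map {α : Type} {F : ℕ → ℕ} (hF : Additive' F) (g : α → ℕ) :
    ∀ (l : List α) (a : ℕ), F ((l.map g).foldl (· ^^^ ·) a) =
      (l.map fun x => F (g x)).foldl (· ^^^ ·) (F a)
  | [], _ => rfl
  | x :: l, a => by
    simp only [List.map_cons, List.foldl_cons]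
    rw [foldl_xor_map hF g l, hF]

/-- An additive map sending every vector to a scalar multiple, and respecting the scalar, is a
scalar. -/
theorem eq_shift_of_additive (e : ℕ → ℕ) (he : ∀ i < 378, e i < 378 ∧ e i / 3 = i / 3)
    (het : ∀ i < 378, e (shift i 1) = shift (e i) 1)
    {F : ℕ → ℕ} (hF : Additive' F) (hFe : ∀ i < 378, F (vecAt i) = vecAt (e i)) :
    ∃ s < 3, ∀ i < 378, e i = shift i s := by
  have h := scalarsOK_eq
  simp only [scalarsOK, Bool.and_eq_true, List.all_eq_true, List.mem_range, Nat.blt_eq] at h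
  obtain ⟨⟨⟨⟨⟨hsum, hlen⟩, hsix⟩, h7⟩, hbase⟩, hall⟩ := h
  have hlen' : sixIdx.length = 6 := Nat.eq_of_beq_eq_true hlen
  have hk : ∀ k < 6, sixIdx.getD k 0 < 378 := fun k hk => by
    rw [List.getD_eq_getElem _ _ (by omega)]
    exact hsix _ (List.getElem_mem _)
  let s : ℕ → ℕ := fun k =>
    if k < 6 then (e (sixIdx.getD k 0) + 3 - sixIdx.getD k 0 % 3) % 3
    else (e sumIdx + 3 - sumIdx % 3) % 3
  have hs : ∀ k, s k < 3 := fun k => by
    simp only [s]; split <;> omega
  have hsk : ∀ k < 6, e (sixIdx.getD k 0) = shift (sixIdx.getD k 0) (s k) := fun k hk' => by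
    have := (he _ (hk k hk')).2
    simp only [s, if_pos hk', shift]
    omega
  have hs6 : e sumIdx = shift sumIdx (s 6) := by
    have := (he _ h7).2
    simp only [s, lt_irrefl, if_false, shift]
    omega
  obtain ⟨t, ht, hdig⟩ : ∃ t < 2187, ∀ k ≤ 6, t / 3 ^ k % 3 = s k := by
    refine ⟨s 0 + 3 * s 1 + 9 * s 2 + 27 * s 3 + 81 * s 4 + 243 * s 5 + 729 * s 6, ?_, fun k hk => ?_⟩
    · have := hs 0; have := hs 1; have := hs 2; have := hs 3; have := hs 4; have := hs 5
      have := hs 6
      omega
    · have := hs 0; have := hs 1; have := hs 2; have := hs 3; have := hs 4; have := hs 5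
      have := hs 6
      interval_cases k <;> norm_num <;> omega
  have hlist : sixIdx = (List.range 6).map fun k => sixIdx.getD k 0 := by
    refine List.ext_getElem (by simp [hlen']) fun k h1 h2 => ?_
    simp [List.getElem?_eq_getElem h1]
  have hrel : ((List.range 6).map fun k => vecAt (shift (sixIdx.getD k 0) (t / 3 ^ k % 3))).foldl
      (· ^^^ ·) 0 = vecAt (shift sumIdx (t / 3 ^ 6 % 3)) := by
    rw [hdig 6 le_rfl, ← hs6, ← hFe _ h7, Nat.eq_of_beq_eq_true hsum]
    conv_rhs => rw [hlist, List.map_map]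
    rw [foldl_xor_map hF (vecAt ∘ fun k => sixIdx.getD k 0), hF.zero]
    refine congrArg (fun l => List.foldl (· ^^^ ·) 0 l) (List.map_congr_left fun k hk' => ?_)
    rw [List.mem_range] at hk'
    rw [Function.comp_apply, hFe _ (hk k hk'), hsk k hk', hdig k (by omega)]
  have heq : ∀ k < 6, s k = s 6 := by
    intro k hk'
    have h2 := hall t ht
    simp only [Bool.or_eq_true, Bool.not_eq_true', List.all_eq_true, List.mem_range] at h2
    rcases h2 with h2 | h2
    · rw [hrel, Nat.beq_refl] at h2
      exact Bool.noConfusion h2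
    · rw [← hdig k (by omega), ← hdig 6 le_rfl]
      exact Nat.eq_of_beq_eq_true (h2 k hk')
  refine ⟨s 6, hs 6, fun i hi => vecAt_injective (he i hi).1 (by unfold shift; omega) ?_⟩
  rw [← hFe i hi, ← scal_iterate hi, (vectors_spec hi).1, map_lin hF,
    map_lin (additive_scal_iterate (s 6))]
  refine lin_congr _ _ fun n hn => ?_
  obtain ⟨k, hk', rfl | rfl⟩ : ∃ k < 6, n = 2 * k ∨ n = 2 * k + 1 := ⟨n / 2, by omega, by omega⟩
  · simp only [Nat.eq_of_beq_eq_true (hbase k hk').1]
    rw [hFe _ (hk k hk'), hsk k hk', heq k hk', scal_iterate (hk k hk')]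
  · simp only [Nat.eq_of_beq_eq_true (hbase k hk').2]
    have hlt : shift (sixIdx.getD k 0) 1 < 378 := by have := hk k hk'; unfold shift; omega
    rw [hFe _ hlt, het _ (hk k hk'), hsk k hk', heq k hk', scal_iterate hlt]
    congr 1
    unfold shift
    omega

end Cfsg.Agent.U43Mult
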