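import Cfsg.Agent.U43Mult.Cover
import Cfsg.Agent.U43Mult.Fibre

set_option autoImplicit false
set_option maxRecDepth 10000

/-!
A stem extension of `S0` with kernel elementary abelian of order nine.
-/

namespace Cfsg.Agent.U43Mult

open Cfsg.Agent.McLUnitary
open scoped commutatorElement

/-- The projection to `S0`. -/
noncomputable def sigmaW : ↥W →* ↥S0 :=
  ((MonoidHom.snd _ _).comp (MonoidHom.snd _ _)).comp W.subtype

theorem sigmaW_surjective : Function.Surjective sigmaW := by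
  rw [← MonoidHom.range_eq_top, eq_top_iff, ← genSub_eq_top, genSub, Subgroup.closure_le]
  rintro _ ⟨k, rfl⟩
  exact ⟨⟨lift3 k, Subgroup.subset_closure ⟨k, rfl⟩⟩, rfl⟩

theorem sigmaW_ker_le : sigmaW.ker ≤ Subgroup.center ↥W := by
  intro x hx
  rw [Subgroup.mem_center_iff]
  intro y
  obtain ⟨a, -, b, -, hxe⟩ := ker_W x.2 (MonoidHom.mem_ker.1 hx)
  obtain ⟨hA, hB⟩ := good_W y.2
  refine Subtype.ext ?_
  rw [Subgroup.coe_mul, Subgroup.coe_mul, hxe]
  exact Prod.ext (Commute.pow_right hA.comm a) (Prod.ext (Commute.pow_right hB.comm b) (by simp))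

/-- A lift of a generator in the group. -/
noncomputable def liftN (k : ℕ) : ↥W :=
  if h : k < 8 then ⟨lift3 ⟨k, h⟩, Subgroup.subset_closure ⟨_, rfl⟩⟩ else 1

/-- The image of a vector under a word. -/
def evalVec (qs : List ℕ) : List ℕ → ℕ → ℕ
  | [], i => i
  | k :: w, i => gt9 (qs.getD k 0) (evalVec qs w i)

/-- A product of lifts, and its three parts. -/
noncomputable def wordEl (w : List ℕ) : ↥W := (w.map liftN).prod

theorem wordEl_spec : ∀ w : List ℕ, (∀ k ∈ w, k < 8) →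
    encS (wordEl w : Big).2.2 = evalCode w ∧ ∀ i : Fin 378,
      ((wordEl w : Big).1 i : ℕ) = evalVec permsA w i ∧
        ((wordEl w : Big).2.1 i : ℕ) = evalVec permsB w i
  | [], _ => ⟨encS_one, fun i => ⟨rfl, rfl⟩⟩
  | k :: w, hw => by
    obtain ⟨he, hi⟩ := wordEl_spec w fun a ha => hw a (List.mem_cons_of_mem _ ha)
    have hk : k < 8 := hw k List.mem_cons_self
    have e : (wordEl (k :: w) : Big) = lift3 ⟨k, hk⟩ * (wordEl w : Big) := by
      simp [wordEl, liftN, hk]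
    have pA := compA_ok.1 k hk
    have pB := compB_ok.1 k hk
    simp only [Comp.genOK, Bool.and_eq_true] at pA pB
    rw [e]
    refine ⟨?_, fun i => ⟨?_, ?_⟩⟩
    · show encS (genEl ⟨k, hk⟩ * (wordEl w : Big).2.2) = _
      rw [encS_mul, enc_genEl, he, evalCode, genCodeN, if_pos hk]
    · show (compA.perm k ((wordEl w : Big).1 i) : ℕ) = _
      rw [Comp.perm, permOf_apply pA.1.1, (hi i).1]
      rfl
    · show (compB.perm k ((wordEl w : Big).2.1 i) : ℕ) = _
      rw [Comp.perm, permOf_apply pB.1.1, (hi i).2]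
      rfl

/-- The test that a commutator of two words is the given scalar in both covers. -/
def pairCheck (u v : List ℕ) (a b : ℕ) : Bool :=
  (u ++ v).all (fun k => Nat.blt k 8) && Nat.beq (evalCode (u ++ v)) (evalCode (v ++ u)) &&
    (List.range 378).all fun i =>
      Nat.beq (evalVec permsA (u ++ v) i) (shift (evalVec permsA (v ++ u) i) a) &&
        Nat.beq (evalVec permsB (u ++ v) i) (shift (evalVec permsB (v ++ u) i) b)

theorem pairCheck0 : pairCheck wordX0 wordY0 1 0 = true := by decide +kernel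

theorem pairCheck1 : pairCheck wordX1 wordY1 0 2 = true := by decide +kernel

theorem commutator_wordEl {u v : List ℕ} {a b : ℕ} (h : pairCheck u v a b = true) :
    ((⁅wordEl u, wordEl v⁆ : ↥W) : Big) = (tau ^ a, tau ^ b, 1) := by
  simp only [pairCheck, Bool.and_eq_true, List.all_eq_true, List.mem_range, Nat.blt_eq] at h
  obtain ⟨⟨hlt, hc⟩, hv⟩ := h
  have hlt' : ∀ k ∈ v ++ u, k < 8 := fun k hk => hlt k (by
    simp only [List.mem_append] at hk ⊢; exact hk.symm)
  obtain ⟨euv, iuv⟩ := wordEl_spec (u ++ v) hlt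
  obtain ⟨evu, ivu⟩ := wordEl_spec (v ++ u) hlt'
  have hz : ((wordEl (u ++ v) : ↥W) : Big) = (tau ^ a, tau ^ b, 1) * (wordEl (v ++ u) : Big) := by
    refine Prod.ext (Equiv.ext fun i => Fin.ext ?_) (Prod.ext (Equiv.ext fun i => Fin.ext ?_) ?_)
    · rw [(iuv i).1, Nat.eq_of_beq_eq_true (hv i i.2).1, Prod.fst_mul, Equiv.Perm.mul_apply,
        tau_pow_apply, (ivu i).1]
    · rw [(iuv i).2, Nat.eq_of_beq_eq_true (hv i i.2).2, Prod.snd_mul, Prod.fst_mul,
        Equiv.Perm.mul_apply, tau_pow_apply, (ivu i).2]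
    · rw [Prod.snd_mul, Prod.snd_mul, one_mul]
      exact encS_injective (by rw [euv, evu, Nat.eq_of_beq_eq_true hc])
  have e1 : ∀ x y : List ℕ, wordEl (x ++ y) = wordEl x * wordEl y := fun x y => by
    simp [wordEl]
  have e2 : ⁅wordEl u, wordEl v⁆ = wordEl (u ++ v) * (wordEl (v ++ u))⁻¹ := by
    rw [e1, e1, commutatorElement_def, mul_inv_rev]
    group
  rw [e2, Subgroup.coe_mul, hz, Subgroup.coe_inv, mul_inv_cancel_right]

/-- The stem extension. -/
noncomputable def sigma3 : ↥(commutator ↥W) →* ↥S0 := sigmaW.comp (commutator ↥W).subtype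

theorem stem_three (hG : commutator ↥S0 = ⊤) :
    Cfsg.IsStemExtension sigma3 ∧ (∀ z ∈ sigma3.ker, z ^ 3 = 1) ∧
      Nonempty (sigma3.ker ≃* Multiplicative (ZMod 3 × ZMod 3)) := by
  have hst : Cfsg.IsStemExtension sigma3 :=
    isStem_commutator sigmaW sigmaW_surjective sigmaW_ker_le hG
  have hform : ∀ z : sigma3.ker, ∃ a < 3, ∃ b < 3, ((z.1.1 : ↥W) : Big) = (tau ^ a, tau ^ b, 1) :=
    fun z => ker_W z.1.1.2 (MonoidHom.mem_ker.1 z.2)
  let rd : sigma3.ker → ZMod 3 × ZMod 3 := fun z =>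
    ((((z.1.1 : ↥W) : Big).1 0 : ℕ), (((z.1.1 : ↥W) : Big).2.1 0 : ℕ))
  have h0 : ∀ s : ℕ, ((((tau ^ s) 0 : Fin 378) : ℕ) : ZMod 3) = s := fun s => by
    rw [tau_pow_apply, show shift ((0 : Fin 378) : ℕ) s = s % 3 by simp [shift], ZMod.natCast_mod]
  have hrd : ∀ z : sigma3.ker, ∀ a b : ℕ,
      ((z.1.1 : ↥W) : Big) = (tau ^ a, tau ^ b, 1) → rd z = ((a : ZMod 3), (b : ZMod 3)) :=
    fun z a b hz => by simp only [rd, hz, h0]
  let χ : sigma3.ker →* Multiplicative (ZMod 3 × ZMod 3) :=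
    MonoidHom.mk' (fun z => Multiplicative.ofAdd (rd z)) fun y z => by
      obtain ⟨a, -, b, -, hy⟩ := hform y
      obtain ⟨c, -, d, -, hz⟩ := hform z
      have hyz : (((y * z).1.1 : ↥W) : Big) = (tau ^ (a + c), tau ^ (b + d), 1) := by
        simp [hy, hz, pow_add]
      rw [hrd y a b hy, hrd z c d hz, hrd _ _ _ hyz, ← ofAdd_add]
      simp
  have hinj : Function.Injective χ := by
    intro y z hyz
    obtain ⟨a, ha, b, hb, hy⟩ := hform y
    obtain ⟨c, hc, d, hd, hz⟩ := hform z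
    have h := Multiplicative.ofAdd.injective hyz
    rw [hrd y a b hy, hrd z c d hz, Prod.mk.injEq, ZMod.natCast_eq_natCast_iff',
      ZMod.natCast_eq_natCast_iff', Nat.mod_eq_of_lt ha, Nat.mod_eq_of_lt hb, Nat.mod_eq_of_lt hc,
      Nat.mod_eq_of_lt hd] at h
    exact Subtype.ext (Subtype.ext (Subtype.ext (by rw [hy, hz, h.1, h.2])))
  have hwit : ∀ {u v : List ℕ} {a b : ℕ}, pairCheck u v a b = true →
      ∃ z : sigma3.ker, ((z.1.1 : ↥W) : Big) = (tau ^ a, tau ^ b, 1) := fun {u v a b} h =>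
    ⟨⟨⟨⁅wordEl u, wordEl v⁆,
      Subgroup.commutator_mem_commutator (Subgroup.mem_top _) (Subgroup.mem_top _)⟩, by
        rw [MonoidHom.mem_ker]
        show ((⁅wordEl u, wordEl v⁆ : ↥W) : Big).2.2 = 1
        rw [commutator_wordEl h]⟩, commutator_wordEl h⟩
  obtain ⟨z₁, hz₁⟩ := hwit pairCheck0
  obtain ⟨z₂, hz₂⟩ := hwit pairCheck1
  have hsurj : Function.Surjective χ := by
    intro w
    obtain ⟨⟨a, b⟩, rfl⟩ := Multiplicative.ofAdd.surjective w
    refine ⟨z₁ ^ a.val * z₂ ^ (2 * b.val), ?_⟩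
    rw [map_mul, map_pow, map_pow]
    apply Multiplicative.toAdd.injective
    show a.val • rd z₁ + (2 * b.val) • rd z₂ = (a, b)
    rw [hrd z₁ 1 0 hz₁, hrd z₂ 0 2 hz₂]
    revert a b
    decide
  refine ⟨hst, fun z hz => ?_, ⟨MulEquiv.ofBijective χ ⟨hinj, hsurj⟩⟩⟩
  have h3 : χ (⟨z, hz⟩ ^ 3) = χ 1 := by
    rw [map_pow, map_one]
    exact (show ∀ x : ZMod 3 × ZMod 3, Multiplicative.ofAdd x ^ 3 = 1 by decide)
      (Multiplicative.toAdd (χ ⟨z, hz⟩))
  exact congrArg Subtype.val (hinj h3)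

end Cfsg.Agent.U43Mult
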